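import Cfsg.Agent.Lib.Spor.HSSylow.Engine

/-!
# Certificates for the images of centralizers
-/

set_option autoImplicit false
set_option maxRecDepth 100000
set_option maxHeartbeats 2000000

namespace CfsgLib.Spor.HSSylow

/-- The certificate for the image of the centralizer of `[132]` at `[32]`. -/
def cert_u_b : Cert where
  xs := [132]
  ys := [32]
  gens := [116, 387, 395]
  cents := [0, 1, 2, 3, 4, 5, 6, 7, 8, 9, 10, 11, 12, 13, 14, 15, 16, 17, 18, 19, 20, 21, 22, 23, 24, 25, 26, 27, 28, 29, 30, 31, 32, 33, 34, 35, 36, 37, 38, 39, 40, 41, 42, 43, 44, 45, 46, 47, 48, 49, 50, 51, 52, 53, 54, 55, 56, 57, 58, 59, 60, 61, 62, 63, 320, 321, 322, 323, 324, 325, 326, 327, 328, 329, 330, 331, 332, 333, 334, 335, 336, 337, 338, 339, 340, 341, 342, 343, 344, 345, 346, 347, 348, 349, 350, 351, 352, 353, 354, 355, 356, 357, 358, 359, 360, 361, 362, 363, 364, 365, 366, 367, 368, 369, 370, 371, 372, 373, 374, 375, 376, 377, 378,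 379, 380, 381, 382, 383]
  reps := [0, 1, 2, 3, 4, 5, 6, 7, 8, 9, 12, 13, 14, 15, 16, 17, 18, 19, 20, 21, 22, 23, 24, 25, 26, 27, 32, 33, 34, 35, 40, 41, 52, 53, 54, 55, 320, 321, 324, 325, 336, 337, 340, 341]
  wit := [0, 0, 0, 0, 0, 0, 0, 0, 0, 0, 320, 320, 0, 0, 0, 0, 0, 0, 0, 0, 0, 0, 0, 0, 0, 0, 0, 0, 320, 320, 320, 320, 0, 0, 0, 0, 320, 320, 320, 320, 0, 0, 320, 320, 320, 320, 320, 320, 320, 320, 320, 320, 0, 0, 0, 0, 320, 320, 320, 320, 320, 320, 320, 320, 0, 0, 8, 8, 0, 0, 8, 8, 20, 28, 28, 20, 20, 28, 28, 20, 0, 0, 8, 8, 0, 0, 8, 8, 20, 28, 28, 20, 20, 28, 28, 20, 24, 24, 16, 16, 24, 24, 16, 16, 12, 4, 4, 12, 12, 4, 4, 12, 24, 24, 16, 16, 24, 24, 16, 16, 12, 4, 4, 12, 12, 4, 4, 12]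
  levels := [([], [[1, 1, 1, 1]]), ([[2, 2], [2, 1, 2, 1]], []), ([], [])]
  paths := []
  targets := []

theorem cert_u_b_check : cert_u_b.check = true := by decide +kernel

/-- The certificate for the image of the centralizer of `[132]` at `[128]`. -/
def cert_u_e : Cert where
  xs := [132]
  ys := [128]
  gens := [116, 1, 260]
  cents := [0, 1, 2, 3, 8, 9, 10, 11, 64, 65, 66, 67, 72, 73, 74, 75, 128, 129, 130, 131, 136, 137, 138, 139, 192, 193, 194, 195, 200, 201, 202, 203, 256, 257, 258, 259, 264, 265, 266, 267, 320, 321, 322, 323, 328, 329, 330, 331, 384, 385, 386, 387, 392, 393, 394, 395, 448, 449, 450, 451, 456, 457, 458, 459]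
  reps := [0, 1, 2, 8, 9, 64, 65, 72, 73, 128, 129, 130, 136, 137, 256, 257, 264, 265, 320, 321, 328, 329]
  wit := [0, 0, 0, 64, 0, 0, 64, 256, 0, 0, 1, 1, 0, 0, 1, 1, 0, 0, 0, 64, 0, 0, 64, 256, 256, 257, 257, 256, 256, 257, 257, 256, 0, 0, 1, 1, 0, 0, 1, 1, 0, 0, 8, 8, 0, 0, 8, 8, 64, 65, 65, 64, 65, 64, 64, 65, 64, 72, 72, 64, 72, 64, 64, 72]
  levels := [([], [[1, 1], [1, 1, 1, 1]]), ([], []), ([], [])]
  paths := []
  targets := []

theorem cert_u_e_check : cert_u_e.check = true := by decide +kernel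

/-- The certificate for the image of the centralizer of `[128]` at `[132]`. -/
def cert_e_u : Cert where
  xs := [128]
  ys := [132]
  gens := [330, 392, 457, 323]
  cents := [0, 1, 2, 3, 8, 9, 10, 11, 116, 117, 118, 119, 124, 125, 126, 127, 132, 133, 134, 135, 140, 141, 142, 143, 208, 209, 210, 211, 216, 217, 218, 219, 260, 261, 262, 263, 268, 269, 270, 271, 336, 337, 338, 339, 344, 345, 346, 347, 384, 385, 386, 387, 392, 393, 394, 395, 500, 501, 502, 503, 508, 509, 510, 511]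
  reps := [0, 1, 2, 8, 9, 116, 117, 124, 125, 132, 133, 134, 140, 141, 260, 261, 268, 269, 336, 337, 344, 345]
  wit := [0, 0, 0, 116, 0, 0, 116, 260, 0, 0, 1, 1, 0, 0, 1, 1, 0, 0, 0, 116, 0, 0, 116, 260, 260, 261, 261, 260, 260, 261, 261, 260, 0, 0, 1, 1, 0, 0, 1, 1, 0, 0, 8, 8, 0, 0, 8, 8, 117, 117, 116, 116, 116, 116, 117, 117, 124, 116, 116, 124, 116, 124, 124, 116]
  levels := [([[1, 1, 1, 1]], [[1, 1]]), ([[2, 2], [2, 1, 2, 1, 0]], []), ([], []), ([], [])]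
  paths := []
  targets := []

theorem cert_e_u_check : cert_e_u.check = true := by decide +kernel

/-- The certificate for the image of the centralizer of `[257]` at `[337]`. -/
def cert_p_v : Cert where
  xs := [257]
  ys := [337]
  gens := [294, 173, 422]
  cents := [0, 1, 2, 3, 32, 33, 34, 35, 132, 133, 134, 135, 164, 165, 166, 167, 336, 337, 338, 339, 368, 369, 370, 371, 476, 477, 478, 479, 508, 509, 510, 511]
  reps := [0, 1, 2, 3, 32, 33, 132, 133, 164, 165, 336, 337, 338, 339, 368, 369, 476, 477, 508, 509]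
  wit := [0, 0, 0, 0, 0, 0, 132, 132, 0, 0, 32, 32, 0, 0, 32, 32, 0, 0, 0, 0, 0, 0, 132, 132, 0, 0, 32, 32, 0, 0, 32, 32]
  levels := [([], [[1, 1]]), ([[2, 2], [2, 1, 2, 1]], []), ([[3, 3], [3, 2, 3, 2], [3, 1, 3, 1]], [[3], [3, 2], [3, 2, 0], [1, 1, 2, 3], [0, 1, 1, 2, 3]])]
  paths := []
  targets := []

theorem cert_p_v_check : cert_p_v.check = true := by decide +kernel

/-- The certificate for the image of the centralizer of `[256]` at `[337]`. -/
def cert_q_v : Cert where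
  xs := [256]
  ys := [337]
  gens := [295, 173, 421]
  cents := [0, 1, 2, 3, 32, 33, 34, 35, 132, 133, 134, 135, 164, 165, 166, 167, 336, 337, 338, 339, 368, 369, 370, 371, 476, 477, 478, 479, 508, 509, 510, 511]
  reps := [0, 1, 2, 3, 32, 33, 132, 133, 164, 165, 336, 337, 338, 339, 368, 369, 476, 477, 508, 509]
  wit := [0, 0, 0, 0, 0, 0, 132, 132, 0, 0, 32, 32, 0, 0, 32, 32, 0, 0, 0, 0, 0, 0, 132, 132, 0, 0, 32, 32, 0, 0, 32, 32]
  levels := [([], [[1, 1]]), ([[2, 2], [2, 1, 2, 1]], []), ([[3, 3], [3, 2, 3, 2], [3, 1, 3, 1]], [[3], [3, 2], [3, 2, 0], [1, 1, 2, 3], [0, 1, 1, 2, 3]])]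
  paths := []
  targets := []

theorem cert_q_v_check : cert_q_v.check = true := by decide +kernel

/-- The certificate for the image of the centralizer of `[337]` at `[257]`. -/
def cert_v_p : Cert where
  xs := [337]
  ys := [257]
  gens := [370, 166, 508]
  cents := [0, 2, 8, 10, 37, 39, 45, 47, 128, 130, 136, 138, 165, 167, 173, 175, 257, 259, 265, 267, 292, 294, 300, 302, 385, 387, 393, 395, 420, 422, 428, 430]
  reps := [0, 2, 8, 10, 37, 39, 128, 130, 165, 167, 257, 259, 265, 267, 292, 294, 385, 387, 420, 422]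
  wit := [0, 0, 0, 0, 0, 0, 128, 128, 0, 0, 37, 37, 0, 0, 37, 37, 0, 0, 0, 0, 0, 0, 128, 128, 0, 0, 37, 37, 0, 0, 37, 37]
  levels := [([], [[1, 1]]), ([[2, 2, 2, 1, 2, 1]], [[2, 2]]), ([], [])]
  paths := []
  targets := []

theorem cert_v_p_check : cert_v_p.check = true := by decide +kernel

/-- The certificate for the image of the centralizer of `[337]` at `[256]`. -/
def cert_v_q : Cert where
  xs := [337]
  ys := [256]
  gens := [370, 166, 508]
  cents := [0, 2, 8, 10, 37, 39, 45, 47, 128, 130, 136, 138, 165, 167, 173, 175, 256, 258, 264, 266, 293, 295, 301, 303, 384, 386, 392, 394, 421, 423, 429, 431]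
  reps := [0, 2, 8, 10, 37, 39, 128, 130, 165, 167, 256, 258, 264, 266, 293, 295, 384, 386, 421, 423]
  wit := [0, 0, 0, 0, 0, 0, 128, 128, 0, 0, 37, 37, 0, 0, 37, 37, 0, 0, 0, 0, 0, 0, 128, 128, 0, 0, 37, 37, 0, 0, 37, 37]
  levels := [([], [[1, 1]]), ([[2, 2, 2, 1, 2, 1]], [[2, 2]]), ([], [])]
  paths := []
  targets := []

theorem cert_v_q_check : cert_v_q.check = true := by decide +kernel

/-- The certificate for the image of the centralizer of `[257]` at `[320]`. -/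
def cert_p_w : Cert where
  xs := [257]
  ys := [320]
  gens := [294, 173, 422]
  cents := [0, 1, 2, 3, 32, 33, 34, 35, 128, 129, 130, 131, 160, 161, 162, 163, 320, 321, 322, 323, 352, 353, 354, 355, 448, 449, 450, 451, 480, 481, 482, 483]
  reps := [0, 1, 2, 3, 32, 33, 128, 129, 160, 161, 320, 321, 322, 323, 352, 353, 448, 449, 480, 481]
  wit := [0, 0, 0, 0, 0, 0, 128, 128, 0, 0, 32, 32, 0, 0, 32, 32, 0, 0, 0, 0, 0, 0, 128, 128, 0, 0, 32, 32, 0, 0, 32, 32]
  levels := [([], [[1, 1]]), ([[2, 2], [2, 1, 2, 1]], []), ([[3, 3], [3, 2, 3, 2], [3, 1, 3, 1]], [[3], [3, 2], [3, 2, 0], [1, 1, 2, 3], [0, 1, 1, 2, 3]])]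
  paths := []
  targets := []

theorem cert_p_w_check : cert_p_w.check = true := by decide +kernel

/-- The certificate for the image of the centralizer of `[257]` at `[32]`. -/
def cert_p_b : Cert where
  xs := [257]
  ys := [32]
  gens := [294, 173, 422]
  cents := [0, 1, 2, 3, 4, 5, 6, 7, 8, 9, 10, 11, 12, 13, 14, 15, 16, 17, 18, 19, 20, 21, 22, 23, 24, 25, 26, 27, 28, 29, 30, 31, 32, 33, 34, 35, 36, 37, 38, 39, 40, 41, 42, 43, 44, 45, 46, 47, 48, 49, 50, 51, 52, 53, 54, 55, 56, 57, 58, 59, 60, 61, 62, 63, 320, 321, 322, 323, 324, 325, 326, 327, 328, 329, 330, 331, 332, 333, 334, 335, 336, 337, 338, 339, 340, 341, 342, 343, 344, 345, 346, 347, 348, 349, 350, 351, 352, 353, 354, 355, 356, 357, 358, 359, 360, 361, 362, 363, 364, 365, 366, 367, 368, 369, 370, 371, 372, 373, 374, 375, 376, 377, 378, 379, 380, 381, 382, 383]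
  reps := [0, 1, 2, 3, 4, 5, 6, 7, 8, 9, 12, 13, 14, 15, 16, 17, 18, 19, 20, 21, 22, 23, 24, 25, 26, 27, 32, 33, 34, 35, 40, 41, 52, 53, 54, 55, 320, 321, 324, 325, 336, 337, 340, 341]
  wit := [0, 0, 0, 0, 0, 0, 0, 0, 0, 0, 320, 320, 0, 0, 0, 0, 0, 0, 0, 0, 0, 0, 0, 0, 0, 0, 0, 0, 320, 320, 320, 320, 0, 0, 0, 0, 320, 320, 320, 320, 0, 0, 320, 320, 320, 320, 320, 320, 320, 320, 320, 320, 0, 0, 0, 0, 320, 320, 320, 320, 320, 320, 320, 320, 0, 0, 8, 8, 0, 0, 8, 8, 20, 28, 28, 20, 20, 28, 28, 20, 0, 0, 8, 8, 0, 0, 8, 8, 20, 28, 28, 20, 20, 28, 28, 20, 24, 24, 16, 16, 24, 24, 16, 16, 12, 4, 4, 12, 12, 4, 4, 12, 24, 24, 16, 16, 24, 24, 16, 16, 12, 4, 4, 12, 12, 4, 4, 12]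
  levels := [([[1, 1, 1, 1]], [[1, 1], [1, 1, 0]]), ([[2, 2], [2, 1, 2, 1]], []), ([[3, 3], [3, 2, 3, 2], [3, 1, 3, 1]], [[3], [3, 2], [3, 2, 0], [1, 1, 2, 3], [0, 1, 1, 2, 3]])]
  paths := []
  targets := []

theorem cert_p_b_check : cert_p_b.check = true := by decide +kernel

end CfsgLib.Spor.HSSylow
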