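import Cfsg.Agent.Lib.Spor.HSSylow.Engine

/-!
# Certificates for the images of centralizers
-/

set_option autoImplicit false
set_option maxRecDepth 100000
set_option maxHeartbeats 2000000

namespace CfsgLib.Spor.HSSylow

/-- The certificate for the image of the centralizer of `[256]` at `[132]`. -/
def cert_q_u_M : Cert where
  xs := [256]
  ys := [132]
  gens := [37, 2, 128]
  cents := [0, 1, 2, 3, 8, 9, 10, 11, 116, 117, 118, 119, 124, 125, 126, 127, 132, 133, 134, 135, 140, 141, 142, 143, 208, 209, 210, 211, 216, 217, 218, 219, 260, 261, 262, 263, 268, 269, 270, 271, 336, 337, 338, 339, 344, 345, 346, 347, 384, 385, 386, 387, 392, 393, 394, 395, 500, 501, 502, 503, 508, 509, 510, 511]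
  reps := [0, 1, 2, 8, 9, 116, 117, 124, 125, 132, 133, 134, 140, 141, 260, 261, 268, 269, 336, 337, 344, 345]
  wit := [0, 0, 0, 116, 0, 0, 116, 260, 0, 0, 1, 1, 0, 0, 1, 1, 0, 0, 0, 116, 0, 0, 116, 260, 260, 261, 261, 260, 260, 261, 261, 260, 0, 0, 1, 1, 0, 0, 1, 1, 0, 0, 8, 8, 0, 0, 8, 8, 117, 117, 116, 116, 116, 116, 117, 117, 124, 116, 116, 124, 116, 124, 124, 116]
  levels := [([[1, 1, 1, 1]], [[1, 1]]), ([[2, 2], [2, 1, 2, 1, 1, 1]], [[2], [2, 0], [2, 1, 1], [0, 1, 1, 2]]), ([[3, 3], [3, 2, 3, 2], [3, 1, 3, 1]], [])]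
  paths := [[([2], false)]]
  targets := [(0, 0), (0, 1), (0, 2), (0, 3), (0, 4), (0, 5), (0, 6), (0, 7), (0, 8), (1, 0), (1, 1), (1, 2), (1, 3), (1, 4), (1, 5), (1, 6), (1, 7), (1, 8), (2, 0), (2, 1), (2, 2), (2, 3), (2, 4), (2, 5), (2, 6), (2, 7), (2, 8), (3, 0), (3, 1), (3, 2), (3, 3), (3, 4), (3, 5), (3, 6), (3, 7), (3, 8), (4, 0), (4, 1), (4, 2), (4, 3), (4, 5), (4, 8), (5, 0), (5, 1), (5, 2), (5, 3), (5, 4), (5, 6), (5, 7), (5, 8), (6, 0), (6, 1), (6, 2), (6, 3), (6, 5), (6, 8), (7, 0), (7, 1), (7, 2), (7, 3), (7, 5), (7, 8), (8, 0), (8, 1), (8, 2), (8, 3), (8, 4), (8, 5), (8, 6), (8, 7), (8, 8)]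

theorem cert_q_u_M_check : cert_q_u_M.check = true := by decide +kernel

/-- The certificate for the image of the centralizer of `[337]` at `[132]`. -/
def cert_v_u_M : Cert where
  xs := [337]
  ys := [132]
  gens := [370, 166, 508]
  cents := [0, 1, 2, 3, 8, 9, 10, 11, 116, 117, 118, 119, 124, 125, 126, 127, 132, 133, 134, 135, 140, 141, 142, 143, 208, 209, 210, 211, 216, 217, 218, 219, 260, 261, 262, 263, 268, 269, 270, 271, 336, 337, 338, 339, 344, 345, 346, 347, 384, 385, 386, 387, 392, 393, 394, 395, 500, 501, 502, 503, 508, 509, 510, 511]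
  reps := [0, 1, 2, 8, 9, 116, 117, 124, 125, 132, 133, 134, 140, 141, 260, 261, 268, 269, 336, 337, 344, 345]
  wit := [0, 0, 0, 116, 0, 0, 116, 260, 0, 0, 1, 1, 0, 0, 1, 1, 0, 0, 0, 116, 0, 0, 116, 260, 260, 261, 261, 260, 260, 261, 261, 260, 0, 0, 1, 1, 0, 0, 1, 1, 0, 0, 8, 8, 0, 0, 8, 8, 117, 117, 116, 116, 116, 116, 117, 117, 124, 116, 116, 124, 116, 124, 124, 116]
  levels := [([[1, 1, 1, 1]], [[1, 1]]), ([[2, 1, 2, 1, 1, 1]], [[2, 2]]), ([[3, 3], [3, 2, 3, 2], [3, 1, 3, 1]], [])]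
  paths := [[([1, 1], false)]]
  targets := [(0, 0), (0, 1), (0, 2), (1, 0), (1, 1), (1, 2), (2, 0), (2, 1), (2, 2)]

theorem cert_v_u_M_check : cert_v_u_M.check = true := by decide +kernel

/-- The certificate for the image of the centralizer of `[257]` at `[128]`. -/
def cert_p_e_H : Cert where
  xs := [257]
  ys := [128]
  gens := [37, 2, 128]
  cents := [0, 1, 2, 3, 8, 9, 10, 11, 64, 65, 66, 67, 72, 73, 74, 75, 128, 129, 130, 131, 136, 137, 138, 139, 192, 193, 194, 195, 200, 201, 202, 203, 256, 257, 258, 259, 264, 265, 266, 267, 320, 321, 322, 323, 328, 329, 330, 331, 384, 385, 386, 387, 392, 393, 394, 395, 448, 449, 450, 451, 456, 457, 458, 459]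
  reps := [0, 1, 2, 8, 9, 64, 65, 72, 73, 128, 129, 130, 136, 137, 256, 257, 264, 265, 320, 321, 328, 329]
  wit := [0, 0, 0, 64, 0, 0, 64, 256, 0, 0, 1, 1, 0, 0, 1, 1, 0, 0, 0, 64, 0, 0, 64, 256, 256, 257, 257, 256, 256, 257, 257, 256, 0, 0, 1, 1, 0, 0, 1, 1, 0, 0, 8, 8, 0, 0, 8, 8, 64, 65, 65, 64, 65, 64, 64, 65, 64, 72, 72, 64, 72, 64, 64, 72]
  levels := [([], [[1, 1], [1, 1, 0]]), ([[2, 2], [2, 1, 2, 1, 1, 1]], [[2], [2, 0], [2, 1, 1], [0, 1, 1, 2]]), ([[3, 3], [3, 2, 3, 2], [3, 1, 3, 1]], [])]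
  paths := [[([1, 1], false)]]
  targets := [(0, 0), (0, 1), (0, 2), (1, 0), (1, 1), (1, 2), (2, 0), (2, 1), (2, 2)]

theorem cert_p_e_H_check : cert_p_e_H.check = true := by decide +kernel

/-- The certificate for the image of the centralizer of `[257]` at `[132]`. -/
def cert_p_u_H : Cert where
  xs := [257]
  ys := [132]
  gens := [37, 2, 128]
  cents := [0, 1, 2, 3, 8, 9, 10, 11, 116, 117, 118, 119, 124, 125, 126, 127, 132, 133, 134, 135, 140, 141, 142, 143, 208, 209, 210, 211, 216, 217, 218, 219, 260, 261, 262, 263, 268, 269, 270, 271, 336, 337, 338, 339, 344, 345, 346, 347, 384, 385, 386, 387, 392, 393, 394, 395, 500, 501, 502, 503, 508, 509, 510, 511]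
  reps := [0, 1, 2, 8, 9, 116, 117, 124, 125, 132, 133, 134, 140, 141, 260, 261, 268, 269, 336, 337, 344, 345]
  wit := [0, 0, 0, 116, 0, 0, 116, 260, 0, 0, 1, 1, 0, 0, 1, 1, 0, 0, 0, 116, 0, 0, 116, 260, 260, 261, 261, 260, 260, 261, 261, 260, 0, 0, 1, 1, 0, 0, 1, 1, 0, 0, 8, 8, 0, 0, 8, 8, 117, 117, 116, 116, 116, 116, 117, 117, 124, 116, 116, 124, 116, 124, 124, 116]
  levels := [([[1, 1, 1, 1]], [[1, 1]]), ([[2, 2], [2, 1, 2, 1, 1, 1]], [[2], [2, 0], [2, 1, 1], [0, 1, 1, 2]]), ([[3, 3], [3, 2, 3, 2], [3, 1, 3, 1]], [])]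
  paths := [[([2], false)]]
  targets := [(0, 0), (0, 1), (0, 2), (0, 3), (0, 4), (1, 0), (1, 1), (1, 2), (1, 3), (1, 4), (2, 0), (2, 1), (2, 2), (2, 3), (2, 4), (3, 0), (3, 1), (3, 2), (4, 0), (4, 1), (4, 2)]

theorem cert_p_u_H_check : cert_p_u_H.check = true := by decide +kernel

/-- The certificate for the image of the centralizer of `[256]` at `[128]`. -/
def cert_q_e_H : Cert where
  xs := [256]
  ys := [128]
  gens := [37, 2, 128]
  cents := [0, 1, 2, 3, 8, 9, 10, 11, 64, 65, 66, 67, 72, 73, 74, 75, 128, 129, 130, 131, 136, 137, 138, 139, 192, 193, 194, 195, 200, 201, 202, 203, 256, 257, 258, 259, 264, 265, 266, 267, 320, 321, 322, 323, 328, 329, 330, 331, 384, 385, 386, 387, 392, 393, 394, 395, 448, 449, 450, 451, 456, 457, 458, 459]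
  reps := [0, 1, 2, 8, 9, 64, 65, 72, 73, 128, 129, 130, 136, 137, 256, 257, 264, 265, 320, 321, 328, 329]
  wit := [0, 0, 0, 64, 0, 0, 64, 256, 0, 0, 1, 1, 0, 0, 1, 1, 0, 0, 0, 64, 0, 0, 64, 256, 256, 257, 257, 256, 256, 257, 257, 256, 0, 0, 1, 1, 0, 0, 1, 1, 0, 0, 8, 8, 0, 0, 8, 8, 64, 65, 65, 64, 65, 64, 64, 65, 64, 72, 72, 64, 72, 64, 64, 72]
  levels := [([], [[1, 1], [1, 1, 0]]), ([[2, 2], [2, 1, 2, 1, 1, 1]], [[2], [2, 0], [2, 1, 1], [0, 1, 1, 2]]), ([[3, 3], [3, 2, 3, 2], [3, 1, 3, 1]], [])]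
  paths := [[([1, 1], false)]]
  targets := [(0, 0), (0, 1), (0, 2), (1, 0), (1, 1), (1, 2), (2, 0), (2, 1), (2, 2)]

theorem cert_q_e_H_check : cert_q_e_H.check = true := by decide +kernel

/-- The certificate for the image of the centralizer of `[256]` at `[132]`. -/
def cert_q_u_H : Cert where
  xs := [256]
  ys := [132]
  gens := [37, 2, 128]
  cents := [0, 1, 2, 3, 8, 9, 10, 11, 116, 117, 118, 119, 124, 125, 126, 127, 132, 133, 134, 135, 140, 141, 142, 143, 208, 209, 210, 211, 216, 217, 218, 219, 260, 261, 262, 263, 268, 269, 270, 271, 336, 337, 338, 339, 344, 345, 346, 347, 384, 385, 386, 387, 392, 393, 394, 395, 500, 501, 502, 503, 508, 509, 510, 511]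
  reps := [0, 1, 2, 8, 9, 116, 117, 124, 125, 132, 133, 134, 140, 141, 260, 261, 268, 269, 336, 337, 344, 345]
  wit := [0, 0, 0, 116, 0, 0, 116, 260, 0, 0, 1, 1, 0, 0, 1, 1, 0, 0, 0, 116, 0, 0, 116, 260, 260, 261, 261, 260, 260, 261, 261, 260, 0, 0, 1, 1, 0, 0, 1, 1, 0, 0, 8, 8, 0, 0, 8, 8, 117, 117, 116, 116, 116, 116, 117, 117, 124, 116, 116, 124, 116, 124, 124, 116]
  levels := [([[1, 1, 1, 1]], [[1, 1]]), ([[2, 2], [2, 1, 2, 1, 1, 1]], [[2], [2, 0], [2, 1, 1], [0, 1, 1, 2]]), ([[3, 3], [3, 2, 3, 2], [3, 1, 3, 1]], [])]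
  paths := [[([2], false)]]
  targets := [(0, 0), (0, 1), (0, 2), (0, 3), (0, 4), (1, 0), (1, 1), (1, 2), (1, 3), (1, 4), (2, 0), (2, 1), (2, 2), (2, 3), (2, 4), (3, 0), (3, 1), (3, 2), (4, 0), (4, 1), (4, 2)]

theorem cert_q_u_H_check : cert_q_u_H.check = true := by decide +kernel

/-- The certificate for the image of the centralizer of `[320]` at `[128]`. -/
def cert_w_e_H : Cert where
  xs := [320]
  ys := [128]
  gens := [35, 131, 163]
  cents := [0, 1, 2, 3, 8, 9, 10, 11, 64, 65, 66, 67, 72, 73, 74, 75, 128, 129, 130, 131, 136, 137, 138, 139, 192, 193, 194, 195, 200, 201, 202, 203, 256, 257, 258, 259, 264, 265, 266, 267, 320, 321, 322, 323, 328, 329, 330, 331, 384, 385, 386, 387, 392, 393, 394, 395, 448, 449, 450, 451, 456, 457, 458, 459]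
  reps := [0, 1, 2, 8, 9, 64, 65, 72, 73, 128, 129, 130, 136, 137, 256, 257, 264, 265, 320, 321, 328, 329]
  wit := [0, 0, 0, 64, 0, 0, 64, 256, 0, 0, 1, 1, 0, 0, 1, 1, 0, 0, 0, 64, 0, 0, 64, 256, 256, 257, 257, 256, 256, 257, 257, 256, 0, 0, 1, 1, 0, 0, 1, 1, 0, 0, 8, 8, 0, 0, 8, 8, 64, 65, 65, 64, 65, 64, 64, 65, 64, 72, 72, 64, 72, 64, 64, 72]
  levels := [([], [[1, 1], [1, 1, 0]]), ([[2, 2, 1, 1], [2, 2, 2, 1, 2, 1]], [[2, 2]]), ([[3, 3], [3, 2, 3, 2], [3, 1, 3, 1]], [])]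
  paths := [[([1, 1], false)]]
  targets := [(0, 0), (0, 1), (0, 2), (0, 3), (0, 4), (1, 0), (1, 1), (1, 2), (1, 3), (1, 4), (2, 0), (2, 1), (2, 2), (2, 3), (2, 4), (3, 0), (3, 1), (3, 2), (4, 0), (4, 1), (4, 2)]

theorem cert_w_e_H_check : cert_w_e_H.check = true := by decide +kernel

end CfsgLib.Spor.HSSylow
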