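import Cfsg.Agent.Lib.Spor.HSSylow.Engine

/-!
# Certificates for the images of centralizers
-/

set_option autoImplicit false
set_option maxRecDepth 100000
set_option maxHeartbeats 2000000

namespace CfsgLib.Spor.HSSylow

/-- The certificate for the image of the centralizer of `[8, 132]` at `[2, 132]`. -/
def cert_L_u0 : Cert where
  xs := [8, 132]
  ys := [2, 132]
  gens := [1, 260]
  cents := [0, 1, 2, 3, 8, 9, 10, 11, 116, 117, 118, 119, 124, 125, 126, 127, 132, 133, 134, 135, 140, 141, 142, 143, 208, 209, 210, 211, 216, 217, 218, 219, 260, 261, 262, 263, 268, 269, 270, 271, 336, 337, 338, 339, 344, 345, 346, 347, 384, 385, 386, 387, 392, 393, 394, 395, 500, 501, 502, 503, 508, 509, 510, 511]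
  reps := [0, 1, 2, 8, 9, 116, 117, 124, 125, 132, 133, 134, 140, 141, 260, 261, 268, 269, 336, 337, 344, 345]
  wit := [0, 0, 0, 116, 0, 0, 116, 260, 0, 0, 1, 1, 0, 0, 1, 1, 0, 0, 0, 116, 0, 0, 116, 260, 260, 261, 261, 260, 260, 261, 261, 260, 0, 0, 1, 1, 0, 0, 1, 1, 0, 0, 8, 8, 0, 0, 8, 8, 117, 117, 116, 116, 116, 116, 117, 117, 124, 116, 116, 124, 116, 124, 124, 116]
  levels := [([[2, 2, 2, 2]], [[2, 2], [2, 2, 0]]), ([], [])]
  paths := []
  targets := []

theorem cert_L_u0_check : cert_L_u0.check = true := by decide +kernel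

/-- The certificate for the image of the centralizer of `[10, 132]` at `[2, 132]`. -/
def cert_L_u1 : Cert where
  xs := [10, 132]
  ys := [2, 132]
  gens := [1, 260]
  cents := [0, 1, 2, 3, 8, 9, 10, 11, 116, 117, 118, 119, 124, 125, 126, 127, 132, 133, 134, 135, 140, 141, 142, 143, 208, 209, 210, 211, 216, 217, 218, 219, 260, 261, 262, 263, 268, 269, 270, 271, 336, 337, 338, 339, 344, 345, 346, 347, 384, 385, 386, 387, 392, 393, 394, 395, 500, 501, 502, 503, 508, 509, 510, 511]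
  reps := [0, 1, 2, 8, 9, 116, 117, 124, 125, 132, 133, 134, 140, 141, 260, 261, 268, 269, 336, 337, 344, 345]
  wit := [0, 0, 0, 116, 0, 0, 116, 260, 0, 0, 1, 1, 0, 0, 1, 1, 0, 0, 0, 116, 0, 0, 116, 260, 260, 261, 261, 260, 260, 261, 261, 260, 0, 0, 1, 1, 0, 0, 1, 1, 0, 0, 8, 8, 0, 0, 8, 8, 117, 117, 116, 116, 116, 116, 117, 117, 124, 116, 116, 124, 116, 124, 124, 116]
  levels := [([[2, 2, 2, 2]], [[2, 2], [2, 2, 0]]), ([], [])]
  paths := []
  targets := []

theorem cert_L_u1_check : cert_L_u1.check = true := by decide +kernel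

/-- The certificate for the image of the centralizer of `[8, 128]` at `[2, 128]`. -/
def cert_L_e0 : Cert where
  xs := [8, 128]
  ys := [2, 128]
  gens := [1, 256]
  cents := [0, 1, 2, 3, 8, 9, 10, 11, 64, 65, 66, 67, 72, 73, 74, 75, 128, 129, 130, 131, 136, 137, 138, 139, 192, 193, 194, 195, 200, 201, 202, 203, 256, 257, 258, 259, 264, 265, 266, 267, 320, 321, 322, 323, 328, 329, 330, 331, 384, 385, 386, 387, 392, 393, 394, 395, 448, 449, 450, 451, 456, 457, 458, 459]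
  reps := [0, 1, 2, 8, 9, 64, 65, 72, 73, 128, 129, 130, 136, 137, 256, 257, 264, 265, 320, 321, 328, 329]
  wit := [0, 0, 0, 64, 0, 0, 64, 256, 0, 0, 1, 1, 0, 0, 1, 1, 0, 0, 0, 64, 0, 0, 64, 256, 256, 257, 257, 256, 256, 257, 257, 256, 0, 0, 1, 1, 0, 0, 1, 1, 0, 0, 8, 8, 0, 0, 8, 8, 64, 65, 65, 64, 65, 64, 64, 65, 64, 72, 72, 64, 72, 64, 64, 72]
  levels := [([], [[2, 2], [2, 2, 0], [2, 2, 1], [0, 1, 2, 2]]), ([], [])]
  paths := []
  targets := []

theorem cert_L_e0_check : cert_L_e0.check = true := by decide +kernel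

/-- The certificate for the image of the centralizer of `[10, 128]` at `[2, 128]`. -/
def cert_L_e1 : Cert where
  xs := [10, 128]
  ys := [2, 128]
  gens := [1, 256]
  cents := [0, 1, 2, 3, 8, 9, 10, 11, 64, 65, 66, 67, 72, 73, 74, 75, 128, 129, 130, 131, 136, 137, 138, 139, 192, 193, 194, 195, 200, 201, 202, 203, 256, 257, 258, 259, 264, 265, 266, 267, 320, 321, 322, 323, 328, 329, 330, 331, 384, 385, 386, 387, 392, 393, 394, 395, 448, 449, 450, 451, 456, 457, 458, 459]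
  reps := [0, 1, 2, 8, 9, 64, 65, 72, 73, 128, 129, 130, 136, 137, 256, 257, 264, 265, 320, 321, 328, 329]
  wit := [0, 0, 0, 64, 0, 0, 64, 256, 0, 0, 1, 1, 0, 0, 1, 1, 0, 0, 0, 64, 0, 0, 64, 256, 256, 257, 257, 256, 256, 257, 257, 256, 0, 0, 1, 1, 0, 0, 1, 1, 0, 0, 8, 8, 0, 0, 8, 8, 64, 65, 65, 64, 65, 64, 64, 65, 64, 72, 72, 64, 72, 64, 64, 72]
  levels := [([], [[2, 2], [2, 2, 0], [2, 2, 1], [0, 1, 2, 2]]), ([], [])]
  paths := []
  targets := []

theorem cert_L_e1_check : cert_L_e1.check = true := by decide +kernel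

end CfsgLib.Spor.HSSylow
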