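import Cfsg.Agent.Lib.Spor.HSSylow.Cert.K00
import Cfsg.Agent.Lib.Spor.HSSylow.Cert.K01
import Cfsg.Agent.Lib.Spor.HSSylow.Cert.K02
import Cfsg.Agent.Lib.Spor.HSSylow.Cert.K03
import Cfsg.Agent.Lib.Spor.HSSylow.Cert.K04
import Cfsg.Agent.Lib.Spor.HSSylow.Cert.K05
import Cfsg.Agent.Lib.Spor.HSSylow.Cert.K06
import Cfsg.Agent.Lib.Spor.HSSylow.Cert.K07
import Cfsg.Agent.Lib.Spor.HSSylow.Cert.K08
import Cfsg.Agent.Lib.Spor.HSSylow.Cert.K09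
import Cfsg.Agent.Lib.Spor.HSSylow.Cert.K10
import Cfsg.Agent.Lib.Spor.HSSylow.Cert.K11
import Cfsg.Agent.Lib.Spor.HSSylow.Cert.K12
import Cfsg.Agent.Lib.Spor.HSSylow.Cert.K13
import Cfsg.Agent.Lib.Spor.HSSylow.Cert.K14
import Cfsg.Agent.Lib.Spor.HSSylow.Cert.K15
import Cfsg.Agent.Lib.Spor.HSSylow.Cert.K16
import Cfsg.Agent.Lib.Spor.HSSylow.Cert.K17
import Cfsg.Agent.Lib.Spor.HSSylow.Cert.K18
import Cfsg.Agent.Lib.Spor.HSSylow.Cert.K19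
import Cfsg.Agent.Lib.Spor.HSSylow.Cert.K20

/-!
# All certificates for the images of centralizers
-/
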