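import Cfsg.Agent.Lib.Spor.HSSylow.Cert.A00
import Cfsg.Agent.Lib.Spor.HSSylow.Cert.A01

/-!
# All certificates for the images of centralizers
-/
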